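import Groth.Prelude.Def_W4c3severiratdpLat
import Mathlib.Data.Fin.Tuple.Basic
import Mathlib.Algebra.Order.Chebyshev
import Mathlib.Order.Interval.Finset.Basic
import Mathlib.Data.Int.Interval
import Mathlib.Algebra.BigOperators.Fin
import Mathlib.Data.Fintype.Card
import Mathlib.Data.Set.Card.Arithmetic
import Mathlib.Tactic.Linarith
import Mathlib.Tactic.Ring

/-!
# Enumerating conic classes
-/

set_option autoImplicit false

open W4c3severiratdp

namespace ConicLib

/-- The window of possible coordinates. -/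
def window : List ℤ := (List.range 23).map fun n : ℕ => (n : ℤ) - 11

theorem mem_window {b : ℤ} (h : b ^ 2 ≤ 121) : b ∈ window := by
  have h1 : -11 ≤ b ∧ b ≤ 11 := ⟨by nlinarith, by nlinarith⟩
  refine List.mem_map.mpr ⟨(b + 11).toNat, List.mem_range.mpr (show (b + 11).toNat < 23 by omega), ?_⟩
  show ((b + 11).toNat : ℤ) - 11 = b
  omega

theorem ncard_biUnion_finset {ι α : Type*} (F : Finset ι) (s : ι → Set α) (hs : ∀ i ∈ F, (s i).Finite)
    (h : (F : Set ι).PairwiseDisjoint s) : (⋃ i ∈ F, s i).ncard = ∑ i ∈ F, (s i).ncard := by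
  have := F.finite_toSet.ncard_biUnion hs h
  rwa [finsum_mem_coe_finset] at this

theorem nodup_window : window.Nodup := by decide

/-- The number of integer tuples with prescribed sum and sum of squares. -/
def cnt : ℕ → ℤ → ℤ → ℕ
  | 0, S, Q => if S = 0 ∧ Q = 0 then 1 else 0
  | δ + 1, S, Q => (window.map fun b =>
      if (S - b) ^ 2 ≤ (δ : ℤ) * (Q - b ^ 2) ∧ 0 ≤ Q - b ^ 2 then cnt δ (S - b) (Q - b ^ 2) else 0).sum

/-- Tuples with prescribed sum and sum of squares. -/
def sol (δ : ℕ) (S Q : ℤ) : Set (Fin δ → ℤ) := {b | ∑ i, b i = S ∧ ∑ i, b i ^ 2 = Q}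

theorem sum_sq_le {δ : ℕ} (b : Fin δ → ℤ) : (∑ i, b i) ^ 2 ≤ (δ : ℤ) * ∑ i, b i ^ 2 := by
  simpa using sq_sum_le_card_mul_sum_sq (s := Finset.univ) (f := b)

theorem finite_sol (δ : ℕ) (S Q : ℤ) : (sol δ S Q).Finite := by
  refine (Set.Finite.pi' fun _ : Fin δ => Set.finite_Icc (-|Q|) |Q|).subset fun b hb i => ?_
  have h1 : b i ^ 2 ≤ |Q| := (Finset.single_le_sum (f := fun i => b i ^ 2) (fun j _ => sq_nonneg (b j))
    (Finset.mem_univ i)).trans (hb.2.trans_le (le_abs_self Q))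
  have h2 : |b i| ≤ |Q| := by
    have := Int.le_self_sq |b i|
    rw [sq_abs] at this
    exact this.trans h1
  exact ⟨(abs_le.mp h2).1, (abs_le.mp h2).2⟩

theorem ncard_sol : ∀ (δ : ℕ) (S Q : ℤ), Q ≤ 121 → (sol δ S Q).ncard = cnt δ S Q
  | 0, S, Q, _ => by
    by_cases h : S = 0 ∧ Q = 0
    · have : sol 0 S Q = {![]} := by
        ext b
        simp [sol, h.1, h.2, Subsingleton.elim b ![]]
      rw [this, Set.ncard_singleton, cnt, if_pos h]
    · have : sol 0 S Q = ∅ := by
        ext b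
        simp only [sol, Set.mem_ofPred_eq, Finset.univ_eq_empty, Finset.sum_empty,
          Set.mem_empty_iff_false, iff_false]
        exact fun hb => h ⟨hb.1.symm, hb.2.symm⟩
      rw [this, Set.ncard_empty, cnt, if_neg h]
  | δ + 1, S, Q, hQ => by
    classical
    let T : ℤ → Set (Fin (δ + 1) → ℤ) := fun b => Fin.cons b '' sol δ (S - b) (Q - b ^ 2)
    have hT : ∀ b, (T b).ncard =
        if (S - b) ^ 2 ≤ (δ : ℤ) * (Q - b ^ 2) ∧ 0 ≤ Q - b ^ 2 then cnt δ (S - b) (Q - b ^ 2) else 0 := by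
      intro b
      rw [show T b = Fin.cons b '' sol δ (S - b) (Q - b ^ 2) from rfl,
        Set.ncard_image_of_injective _ (Fin.cons_right_injective (α := fun _ => ℤ) b)]
      split_ifs with h
      · exact ncard_sol δ (S - b) (Q - b ^ 2) (by nlinarith)
      · rw [Set.ncard_eq_zero (finite_sol δ _ _)]
        refine Set.eq_empty_of_forall_notMem fun c hc => h ⟨?_, ?_⟩
        · rw [← hc.1, ← hc.2]; exact sum_sq_le c
        · rw [← hc.2]; exact Finset.sum_nonneg fun i _ => sq_nonneg (c i)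
    have hsol : sol (δ + 1) S Q = ⋃ b ∈ window.toFinset, T b := by
      ext c
      simp only [Set.mem_iUnion, List.mem_toFinset, exists_prop]
      constructor
      · intro hc
        have h0 : c 0 ^ 2 ≤ 121 := (Finset.single_le_sum (f := fun i => c i ^ 2)
          (fun j _ => sq_nonneg (c j)) (Finset.mem_univ 0)).trans (hc.2.trans_le hQ)
        refine ⟨c 0, mem_window h0, Fin.tail c, ⟨?_, ?_⟩, Fin.cons_self_tail c⟩
        · have h := hc.1
          rw [Fin.sum_univ_succ] at h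
          simp only [Fin.tail]
          linarith
        · have h := hc.2
          rw [Fin.sum_univ_succ] at h
          simp only [Fin.tail]
          linarith
      · rintro ⟨b, -, d, hd, rfl⟩
        refine ⟨?_, ?_⟩
        · rw [Fin.sum_univ_succ]; simp [hd.1]
        · rw [Fin.sum_univ_succ]; simp [hd.2]
    rw [hsol, ncard_biUnion_finset _ _ (fun b _ => (finite_sol δ _ _).image _) (fun a _ b _ hab => by
      refine Set.disjoint_left.mpr ?_
      rintro _ ⟨d, -, rfl⟩ ⟨e, -, he⟩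
      exact hab (by simpa using (congrFun he 0).symm)), cnt,
      List.sum_toFinset _ nodup_window]
    exact congrArg List.sum (List.map_congr_left fun b _ => hT b)

theorem form_self {δ : ℕ} (v : DP δ) : form v v = v 0 ^ 2 - ∑ i : Fin δ, v i.succ ^ 2 := by
  simp only [form, sq]

theorem form_canon {δ : ℕ} (v : DP δ) : form (canon δ) v = -3 * v 0 + ∑ i : Fin δ, v i.succ := by
  simp [form, canon]

theorem isConic_iff {δ : ℕ} (v : DP δ) :
    IsConic v ↔ Fin.tail v ∈ sol δ (3 * v 0 - 2) (v 0 ^ 2) := by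
  simp only [IsConic, form_self, form_canon, sol, Set.mem_setOf_eq, Fin.tail]
  constructor <;> rintro ⟨h1, h2⟩ <;> constructor <;> linarith

theorem bounds {δ : ℕ} (hδ : δ ≤ 8) {v : DP δ} (h : IsConic v) : 1 ≤ v 0 ∧ v 0 ≤ 11 := by
  obtain ⟨h1, h2⟩ := (isConic_iff v).mp h
  have h3 := sum_sq_le (Fin.tail v)
  rw [h1, h2] at h3
  have : (δ : ℤ) ≤ 8 := by exact_mod_cast hδ
  constructor <;> nlinarith [mul_le_mul_of_nonneg_right this (sq_nonneg (v 0))]

/-- Conic classes are counted by `cnt`. -/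
theorem ncard_conic (δ : ℕ) (hδ : δ ≤ 8) :
    {v : DP δ | IsConic v}.ncard =
      ((List.range 11).map fun n : ℕ => cnt δ (3 * ((n : ℤ) + 1) - 2) (((n : ℤ) + 1) ^ 2)).sum := by
  classical
  let T : ℕ → Set (DP δ) := fun n => Fin.cons ((n : ℤ) + 1) '' sol δ (3 * ((n : ℤ) + 1) - 2) (((n : ℤ) + 1) ^ 2)
  have e : {v : DP δ | IsConic v} = ⋃ n ∈ (List.range 11).toFinset, T n := by
    ext v
    simp only [Set.mem_iUnion, List.mem_toFinset, exists_prop, List.mem_range, Set.mem_setOf_eq]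
    constructor
    · intro h
      obtain ⟨h1, h2⟩ := bounds hδ h
      refine ⟨(v 0 - 1).toNat, by omega, Fin.tail v, ?_, ?_⟩
      · rw [show ((v 0 - 1).toNat : ℤ) + 1 = v 0 by omega]
        exact (isConic_iff v).mp h
      · rw [show ((v 0 - 1).toNat : ℤ) + 1 = v 0 by omega]
        exact Fin.cons_self_tail v
    · rintro ⟨n, -, d, hd, rfl⟩
      rw [isConic_iff]
      simpa using hd
  rw [e, ncard_biUnion_finset _ _ (fun n _ => (finite_sol δ _ _).image _) (fun a _ b _ hab => by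
      refine Set.disjoint_left.mpr ?_
      rintro _ ⟨d, -, rfl⟩ ⟨e, -, he⟩
      have := congrFun he 0
      simp at this
      exact hab this.symm), List.sum_toFinset _ List.nodup_range]
  refine congrArg List.sum (List.map_congr_left fun n hn => ?_)
  rw [Set.ncard_image_of_injective _ (Fin.cons_right_injective (α := fun _ => ℤ) _)]
  refine ncard_sol _ _ _ ?_
  have := List.mem_range.mp hn
  nlinarith

/-- Non-increasing tuples with prescribed sum and sum of squares. -/
def desc : ℕ → ℤ → ℤ → ℤ → List (List ℤ)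
  | 0, S, Q, _ => if S = 0 ∧ Q = 0 then [[]] else []
  | δ + 1, S, Q, m => window.flatMap fun b =>
      if b ≤ m ∧ (S - b) ^ 2 ≤ (δ : ℤ) * (Q - b ^ 2) ∧ 0 ≤ Q - b ^ 2 then
        (desc δ (S - b) (Q - b ^ 2) b).map (b :: ·)
      else []

theorem mem_desc : ∀ (δ : ℕ) (S Q m : ℤ), Q ≤ 121 → ∀ c : Fin δ → ℤ, c ∈ sol δ S Q → Antitone c →
    (∀ i, c i ≤ m) → List.ofFn c ∈ desc δ S Q m
  | 0, S, Q, m, _, c, hc, _, _ => by
    have h : S = 0 ∧ Q = 0 := by
      refine ⟨?_, ?_⟩
      · rw [← hc.1]; simp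
      · rw [← hc.2]; simp
    rw [desc, if_pos h]
    simp
  | δ + 1, S, Q, m, hQ, c, hc, hanti, hm => by
    have h0 : c 0 ^ 2 ≤ 121 := (Finset.single_le_sum (f := fun i => c i ^ 2)
      (fun j _ => sq_nonneg (c j)) (Finset.mem_univ 0)).trans (hc.2.trans_le hQ)
    have hc' : Fin.tail c ∈ sol δ (S - c 0) (Q - c 0 ^ 2) := by
      obtain ⟨h1, h2⟩ := hc
      rw [Fin.sum_univ_succ] at h1 h2
      refine ⟨?_, ?_⟩ <;> simp only [Fin.tail] <;> linarith
    refine List.mem_flatMap.mpr ⟨c 0, mem_window h0, ?_⟩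
    have g1 : (S - c 0) ^ 2 ≤ (δ : ℤ) * (Q - c 0 ^ 2) := by
      rw [← hc'.1, ← hc'.2]; exact sum_sq_le _
    have g2 : 0 ≤ Q - c 0 ^ 2 := by
      rw [← hc'.2]; exact Finset.sum_nonneg fun i _ => sq_nonneg _
    rw [if_pos ⟨hm 0, g1, g2⟩, List.ofFn_succ]
    exact List.mem_map_of_mem (mem_desc δ _ _ (c 0) (by nlinarith) (Fin.tail c) hc'
      (fun i j h => hanti (Fin.succ_le_succ_iff.mpr h)) fun i => hanti (Fin.zero_le _))

end ConicLib
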